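import Cfsg.Agent.H257.RG.SuzCls
import Cfsg.Agent.H952.S8.Suz

/-!
# The class number of `Suz` (helper759)

* `card_classes_le` : a group whose elements are images of `n` elements under automorphisms has at most `|Out| n` classes;
* `k_suz` : `k(Suz) ≤ 74`.
-/

set_option autoImplicit false
set_option maxRecDepth 100000

namespace Cfsg.Agent.H759.S8.SuzK

open Cfsg

universe u v

theorem card_classes_le {G : Type u} [Group G] [Finite G] {ι : Type v} [Finite ι] (r : ι → G)
    (h : ∀ g : G, ∃ (i : ι) (α : MulAut G), g = α (r i)) :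
    Nat.card (ConjClasses G) ≤ (MulAut.conj : G →* MulAut G).range.index * Nat.card ι := by
  classical
  let I : Subgroup (MulAut G) := (MulAut.conj : G →* MulAut G).range
  have hfin : Finite (MulAut G ⧸ I) := inferInstance
  let F : (MulAut G ⧸ I) × ι → ConjClasses G := fun x => ConjClasses.mk (x.1.out (r x.2))
  have hF : Function.Surjective F := by
    intro c
    obtain ⟨g, rfl⟩ := ConjClasses.mk_surjective c
    obtain ⟨i, α, hg⟩ := h g
    refine ⟨((α : MulAut G ⧸ I), i), ?_⟩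
    have h1 : (((α : MulAut G ⧸ I).out : MulAut G) : MulAut G ⧸ I) = (α : MulAut G ⧸ I) := QuotientGroup.out_eq' _
    have h2 : ((α : MulAut G ⧸ I).out : MulAut G)⁻¹ * α ∈ I := QuotientGroup.eq.1 h1
    obtain ⟨b, hb⟩ := h2
    have h3 : α = (α : MulAut G ⧸ I).out * MulAut.conj b := by rw [hb, mul_inv_cancel_left]
    show ConjClasses.mk ((α : MulAut G ⧸ I).out (r i)) = ConjClasses.mk g
    rw [ConjClasses.mk_eq_mk_iff_isConj, hg]
    refine isConj_iff.2 ⟨((α : MulAut G ⧸ I).out) b, ?_⟩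
    have h4 : α (r i) = ((α : MulAut G ⧸ I).out) (b * r i * b⁻¹) := by
      have h5 := DFunLike.congr_fun h3 (r i)
      rw [MulAut.mul_apply, MulAut.conj_apply] at h5
      exact h5
    rw [h4, map_mul, map_mul, map_inv]
  calc Nat.card (ConjClasses G) ≤ Nat.card ((MulAut G ⧸ I) × ι) := Nat.card_le_card_of_surjective F hF
    _ = I.index * Nat.card ι := by rw [Nat.card_prod]; rfl

theorem k_suz : Nat.card (ConjClasses Spor.Suz) ≤ 74 := by
  classical
  have hfin : Finite Spor.Suz := Nat.finite_of_card_ne_zero (by rw [Cfsg.Agent.S1694.result.2]; norm_num)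
  let P : Fin 37 → Spor.Suz → Prop := fun i r => ∃ x : ℕ × ℕ × List ℕ, H123.Cls.SuzDat.D[(i : ℕ)]? = some x ∧
    ∀ p : Fin 1782, (OddHalf.Table.SuzRep.ψ r p : ℕ) = H123.Cls.lk 11 x.1 p
  let r : Fin 37 → Spor.Suz := fun i => if h : ∃ r, P i r then h.choose else 1
  have h : ∀ g : Spor.Suz, ∃ (i : Fin 37) (α : MulAut Spor.Suz), g = α (r i) := by
    intro g
    obtain ⟨i, x, y, hi, hx, -, ⟨r0, α, hr, hg⟩, -, -⟩ := H257.RG.SuzF.cls_of g
    have hP : ∃ r, P ⟨i, hi⟩ r := ⟨r0, x, hx, hr⟩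
    refine ⟨⟨i, hi⟩, α, ?_⟩
    have h1 : r ⟨i, hi⟩ = r0 := by
      show (if h : ∃ r, P ⟨i, hi⟩ r then h.choose else 1) = r0
      rw [dif_pos hP]
      obtain ⟨x', hx', h2⟩ := hP.choose_spec
      have h3 : x' = x := Option.some_injective _ (hx'.symm.trans hx)
      subst h3
      apply OddHalf.Table.SuzRep.ψ_injective
      ext p
      rw [h2, hr]
    rw [h1]
    exact hg
  refine (card_classes_le r h).trans ?_
  rw [Nat.card_eq_fintype_card, Fintype.card_fin]
  have h2 := H952.S8.Suz.index_le (X := Spor.Suz) ⟨MulEquiv.refl _⟩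
  omega

theorem k_suz' {X : Type v} [Group X] (hX : Spor.IsoSuz X) : Nat.card (ConjClasses X) ≤ 74 := by
  obtain ⟨e⟩ := hX
  have h : Nat.card (ConjClasses X) = Nat.card (ConjClasses Spor.Suz) := by
    refine Nat.card_congr ⟨ConjClasses.map e.toMonoidHom, ConjClasses.map e.symm.toMonoidHom, ?_, ?_⟩
    · rintro ⟨x⟩
      change ConjClasses.mk (e.symm (e x)) = ConjClasses.mk x
      rw [MulEquiv.symm_apply_apply]
    · rintro ⟨x⟩
      change ConjClasses.mk (e (e.symm x)) = ConjClasses.mk x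
      rw [MulEquiv.apply_symm_apply]
  rw [h]
  exact k_suz

end Cfsg.Agent.H759.S8.SuzK
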