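import Cfsg.Agent.H759.S8.SuzSq
import Cfsg.Agent.H759.S8.SuzK
import Cfsg.Agent.H529.S8.Cov
import Cfsg.Agent.H242.S8.Twin

/-!
# S4908, the row `Suz`, COVER for the prime 3 (helper759)

`cover` : a perfect central extension of `Suz` by a group of order 3 has the faithful degrees 66 and 78; `k(Suz) ≤ 74` gives
`i ≤ 2`; `i = 0, 1`: degree 78, `i = 2`: degree 66.
-/

set_option autoImplicit false
set_option maxRecDepth 100000

namespace Cfsg.Agent.H759.S8.SuzThree

open Cfsg Cfsg.Agent.H704.S8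

universe u v

theorem not_mem {X : Type v} [Group X] (hX : Spor.IsoSuz X) {m : ℕ} (h : (m ≠ 1 ∧ m < 110) ∨
    (m % 13 ≠ 0 ∧ m % 13 ≠ 1 ∧ m % 13 ≠ 6 ∧ m % 13 ≠ 7 ∧ m % 13 ≠ 12) ∨
    (m % 11 ≠ 0 ∧ m % 11 ≠ 1 ∧ m % 11 ≠ 10)) : m ∉ charDegrees X := by
  intro hm
  obtain ⟨-, h1, h2, h3⟩ := H952.S8.Suz.degX hX hm
  omega

/-- **COVER, the prime 3** -/
theorem cover {X : Type v} [Group X] [Finite X] (hX : Spor.IsoSuz X) (D : Set ℕ) (hD : Deg 2 X D) :
    H529.S8.CoverAt.{u} 3 2 D X := by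
  have hdeg : ∀ e ∈ D, e ∈ charDegrees X ∨ ∃ n ∈ charDegrees X, n ≠ 1 ∧ e = 2 * n := by
    have hs : IsSimpleGroup Spor.Suz := Cfsg.Agent.S1694.result.1
    obtain ⟨eX⟩ := hX
    have hsX : IsSimpleGroup X := by
      have : Nontrivial X := eX.toEquiv.nontrivial
      exact IsSimpleGroup.isSimpleGroup_of_surjective (G := Spor.Suz) eX.symm.toMonoidHom eX.symm.surjective
    refine (H242.S8.deg_two' hsX ?_ (H952.S8.Suz.index_le ⟨eX⟩) hD).2
    intro hc
    have hc' : ∀ a b : X, a * b = b * a := fun a b => hc.is_comm.comm a b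
    let _ : CommGroup X := { (inferInstance : Group X) with mul_comm := hc' }
    have h1 : (Nat.card X).Prime := IsSimpleGroup.prime_card
    rw [Nat.card_congr eX.toEquiv, Cfsg.Agent.S1694.result.2] at h1
    norm_num at h1
  intro N _ _ V _ hV hc hp hN i hi
  have hk := SuzK.k_suz' hX
  have hi2 : i ≤ 2 := by
    by_contra hcon
    have h1 : 3 ^ (2 * 3) ≤ 3 ^ (2 * i) := Nat.pow_le_pow_right (by norm_num) (by omega)
    norm_num at h1
    omega
  obtain ⟨⟨α, hα, hαV, hα1⟩, ⟨β, hβ, hβV, hβ1⟩⟩ := SuzSq.exists_sq hX V hV hc hp hN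
  have key : ∀ m : ℕ, m ∉ charDegrees X → (∀ n, m = 2 * n → n ∉ charDegrees X) → m ∉ D := by
    intro m h1 h2 hm
    rcases hdeg m hm with h | ⟨n, hn, -, h⟩
    · exact h1 h
    · exact h2 n h hn
  interval_cases i
  · refine ⟨α, 78, hα, hαV, hα1, key _ (not_mem hX (by decide)) fun n hn => not_mem hX (by omega), Or.inl ?_⟩
    exact key _ (not_mem hX (by decide)) fun n hn => not_mem hX (by omega)
  · refine ⟨α, 78, hα, hαV, hα1, key _ (not_mem hX (by decide)) fun n hn => not_mem hX (by omega), Or.inl ?_⟩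
    exact key _ (not_mem hX (by decide)) fun n hn => not_mem hX (by omega)
  · refine ⟨β, 66, hβ, hβV, hβ1, key _ (not_mem hX (by decide)) fun n hn => not_mem hX (by omega), Or.inl ?_⟩
    exact key _ (not_mem hX (by decide)) fun n hn => not_mem hX (by omega)

end Cfsg.Agent.H759.S8.SuzThree
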