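import Cfsg.Agent.H299.K4.SuzX
import Cfsg.Agent.PermChar.SymAlt
import Cfsg.Agent.H80.Fpf.Mult
import Cfsg.Agent.H646.Restrict
import Cfsg.Agent.H905.PCover
import Cfsg.Agent.CharactersDeep.IrrEquiv
import Cfsg.Agent.S2048

/-!
# S4908, `Suz`: faithful characters of degree 66 and 78 of the covers by a group of order 3 (helper759)

`C = C(e 1)` in `Co0`, `χ` its character of degree 12, `L = C'`; `χ χ̄ = 1 + ψ`, so the symmetric and the alternating
square of `χ` are irreducible on every group which maps onto `L`.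

* `exists_sq` : a perfect central extension of `Suz` by a group `V` of order 3 has irreducible characters of degree 78 and
  66, nontrivial on `V`.
-/

set_option autoImplicit false
set_option maxRecDepth 20000

namespace Cfsg.Agent.H759.S8.SuzSq

open Cfsg Cfsg.Agent.Characters.Core Cfsg.Agent.H843.IMC
open Cfsg.Agent.LThreeCo1.AGrp Cfsg.Agent.LThreeCo1.Rel Cfsg.Agent.LThreeCo1.Class
open Cfsg.Agent.H299.K4.Orb Cfsg.Agent.H299.K4.Wt Cfsg.Agent.H299.K4.SuzC Cfsg.Agent.H299.K4.Suz143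
open Cfsg.Agent.H299.K4.SuzX
open Cfsg.Agent.CoOneType.ClosingFacts (mk mk_eq mk_mul)
open Cfsg.Agent.LThreeMB (XX Zx exists_mk mk_eq_mk)
open Cfsg.Agent.H80.Fpf
open scoped ComplexConjugate commutatorElement

universe u v

/-! ### `e 1` is in the derived subgroup -/

theorem conj7 (v : V) : f (Multiplicative.ofAdd (lin c7 v)) =
    (⟨e 7, e7_mem⟩ : C) * f (Multiplicative.ofAdd v) * (⟨e 7, e7_mem⟩ : C)⁻¹ := by
  refine Subtype.ext ?_
  rw [f_val]
  show _ = e 7 * Ph a v * (e 7)⁻¹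
  rw [cj_spec k_7]
  congr 2
  funext j i
  exact (c7_eq j i).symm

theorem conj11 (v : V) : f (Multiplicative.ofAdd (lin c11 v)) =
    (⟨e 11, e11_mem⟩ : C) * f (Multiplicative.ofAdd v) * (⟨e 11, e11_mem⟩ : C)⁻¹ := by
  refine Subtype.ext ?_
  rw [f_val]
  show _ = e 11 * Ph a v * (e 11)⁻¹
  rw [cj_spec k_11]
  congr 2
  funext j i
  exact (c11_eq j i).symm

def v7 : V := ![0, 0, 0, 0, 0, 1]
def v11 : V := ![0, 0, 2, 2, 0, 1]

theorem e0_eq : (Pi.single 0 1 : V) = (lin c7 v7 + -v7) + (lin c11 v11 + -v11) := by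
  funext i
  revert i
  decide +kernel

theorem s1_mem : s1 ∈ commutator C := by
  rw [← f_single, e0_eq, ofAdd_add, ofAdd_add, ofAdd_add, ofAdd_neg, ofAdd_neg, map_mul, map_mul, map_mul, map_inv,
    map_inv, conj7, conj11]
  exact mul_mem (Subgroup.commutator_mem_commutator (Subgroup.mem_top _) (Subgroup.mem_top _))
    (Subgroup.commutator_mem_commutator (Subgroup.mem_top _) (Subgroup.mem_top _))

/-! ### the kernel of `C → X` -/

theorem ker_cases {g : C} (h : φ g = 1) : ∃ n : ℕ, g * s1 ^ n = 1 ∨ g * s1 ^ n = ng := by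
  have hgh : φ g = φ 1 := by rw [h, map_one]
  obtain ⟨i, hi⟩ := (mk_eq_mk (comm_s g) (comm_s 1)).1 hgh
  obtain ⟨n, hn⟩ : ∃ n : ℕ, s ^ i = s ^ n := by
    refine ⟨(i % 3).toNat, ?_⟩
    have h1 : ((i % 3).toNat : ℤ) = i % 3 := Int.toNat_of_nonneg (Int.emod_nonneg i (by norm_num))
    rw [← zpow_natCast, h1]
    conv_lhs => rw [← Int.emod_add_mul_ediv i 3, zpow_add, zpow_mul]
    have h2 : s ^ (3 : ℤ) = 1 := by
      have := s_cube
      exact_mod_cast this
    rw [h2, one_zpow, mul_one]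
  rw [hn] at hi
  have h3 : mk (((g * s1 ^ n : C) : C) : Co0) = mk ((1 : C) : Co0) := by
    rw [← hi]
    rfl
  refine ⟨n, ?_⟩
  rcases (mk_eq _ _).1 h3 with h4 | h4
  · exact Or.inl (Subtype.ext h4)
  · right
    have h5 : g * s1 ^ n = 1 * ng := Subtype.ext h4
    rw [h5, one_mul]

theorem s1_comm (g : C) : s1 * g = g * s1 := Subtype.ext (mem_C.1 g.2).symm

theorem ng_comm (g : C) : ng * g = g * ng :=
  Subtype.ext (Subgroup.mem_center_iff.1 Cfsg.Agent.SporadicA.Co1Simple.allOne_mem_center (g : Co0)).symm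

theorem s1_center : s1 ∈ Subgroup.center C := Subgroup.mem_center_iff.2 fun g => (s1_comm g).symm

theorem ng_center : ng ∈ Subgroup.center C := Subgroup.mem_center_iff.2 fun g => (ng_comm g).symm

theorem ker_le : φ.ker ≤ Subgroup.center C := by
  intro g hg
  obtain ⟨n, h | h⟩ := ker_cases hg
  · have h1 : g = (s1 ^ n)⁻¹ := eq_inv_of_mul_eq_one_left h
    rw [h1]
    exact inv_mem (pow_mem s1_center n)
  · have h1 : g = ng * (s1 ^ n)⁻¹ := eq_mul_inv_of_mul_eq h
    rw [h1]
    exact mul_mem ng_center (inv_mem (pow_mem s1_center n))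

theorem perfS : commutator Spor.Suz = ⊤ :=
  Cfsg.Agent.H51.Tools.perfect_of_simple Cfsg.Agent.S1694.result.1 (by rw [Cfsg.Agent.S1694.result.2]; norm_num)

/-- `X ≅ Suz` -/
noncomputable def eX : X ≃* Spor.Suz := Classical.choice isoX

theorem perfX : commutator X = ⊤ := by
  have h := congrArg (fun K => Subgroup.map eX.symm.toMonoidHom K) perfS
  simp only [commutator_def, Subgroup.map_commutator] at h
  rw [Subgroup.map_top_of_surjective _ eX.symm.surjective] at h
  exact h

/-- the derived subgroup -/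
abbrev L : Type := ↥(commutator C)

theorem pcov : commutator L = ⊤ ∧ (commutator C).map φ = ⊤ :=
  H905.PCover.commutator_perfect perfX φ_surj ker_le

/-- `L → Suz` -/
noncomputable def πL : L →* Spor.Suz := eX.toMonoidHom.comp (φ.comp (commutator C).subtype)

theorem πL_apply (l : L) : πL l = eX (φ l) := rfl

theorem isCover_πL : IsCover πL where
  surj := by
    intro y
    have h : eX.symm y ∈ (commutator C).map φ := by rw [pcov.2]; trivial
    obtain ⟨l, hl, h1⟩ := h
    refine ⟨⟨l, hl⟩, ?_⟩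
    rw [πL_apply, h1, eX.apply_symm_apply]
  central := by
    intro l hl
    have h1 : φ (l : C) = 1 := by
      apply eX.injective
      rw [map_one]
      exact hl
    have h2 := Subgroup.mem_center_iff.1 (ker_le h1)
    rw [Subgroup.mem_center_iff]
    exact fun x => Subtype.ext (h2 x)
  perf := pcov.1

/-! ### the character of degree 12 on `L` -/

theorem χ_ng1 : χ ng = -12 := by
  have h := χ_ng 1
  rwa [one_mul, χ_one] at h

theorem exists_mul (g : C) : ∃ l ∈ commutator C, g = l ∨ g = l * ng := by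
  have h : φ g ∈ (commutator C).map φ := by rw [pcov.2]; trivial
  obtain ⟨l, hl, h1⟩ := h
  have h2 : φ (l⁻¹ * g) = 1 := by rw [map_mul, map_inv, h1, inv_mul_cancel]
  obtain ⟨n, h3 | h3⟩ := ker_cases h2
  · refine ⟨l * (s1 ^ n)⁻¹, mul_mem hl (inv_mem (pow_mem s1_mem n)), Or.inl ?_⟩
    rw [← eq_inv_of_mul_eq_one_left h3]
    group
  · refine ⟨l * (s1 ^ n)⁻¹, mul_mem hl (inv_mem (pow_mem s1_mem n)), Or.inr ?_⟩
    have h4 : l⁻¹ * g = ng * (s1 ^ n)⁻¹ := eq_mul_inv_of_mul_eq h3
    have h5 : ng * (s1 ^ n)⁻¹ = (s1 ^ n)⁻¹ * ng := ng_comm _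
    rw [h5] at h4
    rw [mul_assoc, ← h4]
    group

theorem irr_L : IsIrrCharacter L (fun l : L => χ l) := by
  classical
  have := Fintype.ofFinite C
  have := Fintype.ofFinite L
  refine H646.Restrict.isIrr_restrict (N := commutator C) ?_ isIrr_χ ?_
  · intro a b
    obtain ⟨a, rfl⟩ := QuotientGroup.mk_surjective a
    obtain ⟨b, rfl⟩ := QuotientGroup.mk_surjective b
    rw [← QuotientGroup.mk_mul, ← QuotientGroup.mk_mul, QuotientGroup.eq]
    have h : (a * b)⁻¹ * (b * a) = ⁅b⁻¹, a⁻¹⁆ := by rw [commutatorElement_def]; group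
    rw [h]
    exact Subgroup.commutator_mem_commutator (Subgroup.mem_top _) (Subgroup.mem_top _)
  · intro μ hμ
    have h1 : μ ((ng : C) : C ⧸ commutator C) = 1 := by
      have h := hμ ng
      exact (mul_eq_left₀ (by rw [χ_ng1]; norm_num)).1 h
    refine MonoidHom.ext fun g => ?_
    obtain ⟨g, rfl⟩ := QuotientGroup.mk_surjective g
    obtain ⟨l, hl, rfl | rfl⟩ := exists_mul g
    · rw [(QuotientGroup.eq_one_iff g).2 hl, map_one, map_one]
    · rw [QuotientGroup.mk_mul, (QuotientGroup.eq_one_iff l).2 hl, one_mul, h1, MonoidHom.one_apply]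

/-! ### `χ χ̄ = 1 + ψ` -/

theorem exists_psi : ∃ ψ : IrrCharacter X, (ψ : X → ℂ) ≠ (fun _ => 1) ∧ ∀ g : C, Θ g = 1 + (ψ : X → ℂ) (φ g) := by
  classical
  have hS : IsSimpleGroup X := by
    obtain ⟨g⟩ := isoX
    have : IsSimpleGroup Spor.Suz := Cfsg.Agent.S1694.result.1
    have : Nontrivial X := g.toEquiv.nontrivial
    exact IsSimpleGroup.isSimpleGroup_of_surjective (G := Spor.Suz) g.symm.toMonoidHom g.symm.surjective
  have := Fintype.ofFinite C
  have hfin : Finite X := Finite.of_surjective φ φ_surj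
  have := Fintype.ofFinite X
  obtain ⟨v0, hv0⟩ := f_ne
  have hl1 : ∀ p : PW, lam (W p.1.1 - W p.1.2) ≠ fun _ => 1 := by
    intro p h
    rw [← lam_zero] at h
    have h1 := lam_injective h
    exact p.2 (W_injective (sub_eq_zero.1 h1))
  have : Nonempty PW := ⟨⟨(0, 1), by decide⟩⟩
  obtain ⟨ψ, k, hψ1, hψ⟩ := exists_of_orbit (φ.comp f) isCharacter_WX (by
    intro η hη
    obtain ⟨K, hK, hKm⟩ := Cfsg.Agent.Blocks.BlockKer.exists_kernel η.2
    have hKt : K = ⊤ := by
      refine (hK.eq_bot_or_eq_top).resolve_left fun h => hv0 ?_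
      have h1 : φ (f v0) ∈ K := (hKm _).2 (hη v0)
      rw [h] at h1
      exact Subgroup.mem_bot.1 h1
    exact Cfsg.Agent.H633.Principal.eq_one_of_ker_top η fun g => (hKm g).1 (by rw [hKt]; exact Subgroup.mem_top g))
    (A := PW) (fun p => lam (W p.1.1 - W p.1.2)) (fun p => isIrr_lam _) (by
      intro p q h
      exact Subtype.ext (diff_inj p.2 q.2 (lam_injective h))) hl1 12 (by
      rw [← Θ_f, ← WX_comp]
      rfl) (fun p q => (mvD_all p.2 q.2).comp φ)
  have h1 : IsIrrCharacter C ((ψ : X → ℂ) ∘ φ) := isIrr_comp φ φ_surj ψ.2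
  have hk : (k : ℂ) = 1 := by
    have h2 : Θ = (k : ℂ) • (fun _ => (1 : ℂ)) + (ψ : X → ℂ) ∘ φ := by
      funext g
      rw [← WX_φ, hψ, Pi.add_apply, Pi.smul_apply, smul_eq_mul, mul_one]
      rfl
    have h3 : classInner Θ (fun _ => (1 : ℂ)) = classInner χ χ := by
      rw [classInner_def, classInner_def]
      congr 1
      refine Finset.sum_congr rfl fun g _ => ?_
      rw [map_one, mul_one]
      rfl
    rw [classInner_irr_self isIrr_χ, h2, classInner_add_left, classInner_smul_left,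
      classInner_irr_self Cfsg.Agent.Blocks.Basic.isIrrCharacter_one,
      classInner_irr_ne h1 Cfsg.Agent.Blocks.Basic.isIrrCharacter_one, add_zero, mul_one] at h3
    · exact h3
    · intro h4
      apply hψ1
      funext q
      obtain ⟨g, rfl⟩ := φ_surj q
      exact congrFun h4 g
  refine ⟨ψ, hψ1, fun g => ?_⟩
  rw [← WX_φ, hψ, hk]

/-! ### the squares -/

theorem irr_pair {G : Type*} [Group G] [Fintype G] {S A : G → ℂ} (hS : IsCharacter G S) (hA : IsCharacter G A)
    (h1 : S 1 ≠ 0) (h2 : A 1 ≠ 0) (h : classInner (S + A) (S + A) = 2) : IsIrrCharacter G S ∧ IsIrrCharacter G A := by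
  classical
  obtain ⟨a, ha⟩ := classInner_isNat hS hS
  obtain ⟨b, hb⟩ := classInner_isNat hA hA
  obtain ⟨c, hc⟩ := classInner_isNat hS hA
  obtain ⟨d, hd⟩ := classInner_isNat hA hS
  have key : ∀ {F : G → ℂ}, F 1 ≠ 0 → classInner F F ≠ 0 := by
    intro F hF h0
    rw [classInner_def] at h0
    have h3 : ∑ g : G, F g * conj (F g) = 0 := by
      rcases mul_eq_zero.1 h0 with h4 | h4
      · exact absurd h4 (inv_ne_zero card_ne_zero_complex)
      · exact h4
    have h5 : ∑ g : G, Complex.normSq (F g) = 0 := by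
      have h6 : ((∑ g : G, Complex.normSq (F g) : ℝ) : ℂ) = 0 := by
        rw [← h3]
        push_cast
        exact Finset.sum_congr rfl fun g _ => by rw [Complex.mul_conj]
      exact_mod_cast h6
    have h6 := (Finset.sum_eq_zero_iff_of_nonneg fun g _ => Complex.normSq_nonneg _).1 h5 1 (Finset.mem_univ _)
    exact hF (Complex.normSq_eq_zero.1 h6)
  have ha0 : a ≠ 0 := by
    rintro rfl
    exact key h1 (by rw [ha, Nat.cast_zero])
  have hb0 : b ≠ 0 := by
    rintro rfl
    exact key h2 (by rw [hb, Nat.cast_zero])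
  rw [classInner_add_left, classInner_add_right, classInner_add_right, ha, hb, hc, hd] at h
  have h3 : a + c + (d + b) = 2 := by exact_mod_cast h
  have ha1 : a = 1 := by omega
  have hb1 : b = 1 := by omega
  exact ⟨isIrr_of_classInner_self hS (by rw [ha, ha1, Nat.cast_one]),
    isIrr_of_classInner_self hA (by rw [hb, hb1, Nat.cast_one])⟩

theorem isIrr_of_comp {X Y : Type*} [Group X] [Group Y] [Finite X] [Finite Y] (f : Y →* X)
    {χ : X → ℂ} (hχ : IsCharacter X χ) (h : IsIrrCharacter Y (χ ∘ f)) : IsIrrCharacter X χ := by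
  obtain ⟨n, ρ, rfl⟩ := hχ
  refine isIrrCharacter_of_rep ρ ?_
  refine Cfsg.Agent.CharactersDeep.IrrEquiv.isIrreducible_of_comp ρ f ?_
  refine isIrreducible_of_isIrrCharacter (G := Y)
    (MonoidHom.comp ρ f : Representation ℂ Y (Fin n → ℂ)) ?_
  exact h

/-! ### the covers -/

theorem φ_s1 : φ s1 = 1 := by
  rw [← map_one φ]
  refine (mk_eq_mk (comm_s s1) (comm_s 1)).2 ⟨-1, ?_⟩
  show mk (e 1) * (mk (e 1)) ^ (-1 : ℤ) = mk ((1 : C) : Co0)
  rw [zpow_neg, zpow_one, mul_inv_cancel]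
  rfl

theorem χ_s1_one : χ s1 = 12 * ζ := by
  have h := χ_s1 1
  rw [one_mul, χ_one] at h
  rw [h, mul_comm]

theorem χ_s1_sq : χ (s1 * s1) = 12 * ζ ^ 2 := by
  rw [χ_s1, χ_s1_one]
  ring

theorem ζ_sq_ne : ζ ^ 2 ≠ 1 := by
  intro h
  have h1 := ζ_pow
  have h2 : ζ = 1 := by
    have h3 : ζ ^ 3 = ζ ^ 2 * ζ := by ring
    rw [h1, h, one_mul] at h3
    exact h3.symm
  exact ζ_prim.ne_one (by norm_num) h2

/-- the sixfold cover -/
theorem exists_six : ∃ (U : Type) (_ : Group U) (_ : Finite U) (υ : U →* Spor.Suz), IsCover υ ∧ Nat.card υ.ker = 6 := by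
  obtain ⟨U, hG, hF, σ, hσ, ⟨e⟩⟩ := Cfsg.Agent.S2048.result.1
  refine ⟨U, hG, hF, σ, ⟨hσ.1, hσ.2.1, ?_⟩, ?_⟩
  · have h1 : (commutator U).map σ = ⊤ := by
      rw [commutator_def, Subgroup.map_commutator, Subgroup.map_top_of_surjective σ hσ.1, ← commutator_def, perfS]
    rw [eq_top_iff]
    intro x _
    have h2 : σ x ∈ (commutator U).map σ := by rw [h1]; trivial
    obtain ⟨l, hl, h3⟩ := h2
    have h4 : l⁻¹ * x ∈ σ.ker := by rw [MonoidHom.mem_ker, map_mul, map_inv, h3, inv_mul_cancel]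
    have h5 := mul_mem hl (hσ.2.2 h4)
    rwa [mul_inv_cancel_left] at h5
  · rw [Nat.card_congr e.toEquiv, Nat.card_congr Multiplicative.toAdd, Nat.card_zmod]

theorem exists_sq0 {G : Type} [Group G] [Finite G] {π : G →* Spor.Suz} (hπ : IsCover π) (h3 : Nat.card π.ker = 3) :
    (∃ α : G → ℂ, IsIrrCharacter G α ∧ (∃ v ∈ π.ker, α v ≠ α 1) ∧ α 1 = (78 : ℕ)) ∧
      (∃ α : G → ℂ, IsIrrCharacter G α ∧ (∃ v ∈ π.ker, α v ≠ α 1) ∧ α 1 = (66 : ℕ)) := by
  classical
  have hSf : Finite Spor.Suz := Nat.finite_of_card_ne_zero (by rw [Cfsg.Agent.S1694.result.2]; norm_num)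
  obtain ⟨U, _, _, υ, hυ, hcard⟩ := exists_six
  have hm : MultDvd Spor.Suz 6 := multDvd_of_cyclic (by norm_num) Cfsg.Agent.S2048.result
  obtain ⟨θ, hθ, hθπ⟩ := exists_of_universal (by norm_num) hm hυ hcard hπ
  obtain ⟨η, hη, hηπ⟩ := exists_of_universal (by norm_num) hm hυ hcard isCover_πL
  have := Fintype.ofFinite U
  have := Fintype.ofFinite C
  -- the kernel of `θ`
  have hker : ∀ z, θ z = 1 → υ z = 1 := fun z hz => by rw [← hθπ, hz, map_one]
  have hzc : ∀ z, θ z = 1 → ∀ u, u * z = z * u := fun z hz u =>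
    Subgroup.mem_center_iff.1 (hυ.central (MonoidHom.mem_ker.2 (hker z hz))) u
  have hcardθ : Nat.card θ.ker = 2 := by
    have c1 := Subgroup.card_eq_card_quotient_mul_card_subgroup υ.ker
    have c2 := Subgroup.card_eq_card_quotient_mul_card_subgroup π.ker
    have c3 := Subgroup.card_eq_card_quotient_mul_card_subgroup θ.ker
    rw [Nat.card_congr (QuotientGroup.quotientKerEquivOfSurjective υ hυ.surj).toEquiv, hcard] at c1
    rw [Nat.card_congr (QuotientGroup.quotientKerEquivOfSurjective π hπ.surj).toEquiv, h3] at c2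
    rw [Nat.card_congr (QuotientGroup.quotientKerEquivOfSurjective θ hθ).toEquiv, c1, c2] at c3
    rw [Cfsg.Agent.S1694.result.2] at c3
    omega
  have hz2 : ∀ z, θ z = 1 → z * z = 1 := by
    intro z hz
    have h1 : (⟨z, hz⟩ : θ.ker) ^ Nat.card θ.ker = 1 := pow_card_eq_one'
    rw [hcardθ] at h1
    have h2 := congrArg Subtype.val h1
    rw [← pow_two]
    exact h2
  have hηz : ∀ z, θ z = 1 → ((η z : L) : C) = 1 ∨ ((η z : L) : C) = ng := by
    intro z hz
    have h1 : φ ((η z : L) : C) = 1 := by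
      apply eX.injective
      rw [map_one, ← πL_apply, hηπ, hker z hz]
    have h2 : ((η z : L) : C) * ((η z : L) : C) = 1 := by
      have h3 := congrArg (fun l : L => (l : C)) (congrArg η (hz2 z hz))
      simp only [map_mul, map_one] at h3
      exact h3
    obtain ⟨n, hn⟩ := ker_cases h1
    have hs3 := s1_cube
    have hcomm : Commute ((η z : L) : C) (s1 ^ n) := (Commute.pow_right (s1_comm _).symm n)
    have hng2 : ng * ng = 1 := Subtype.ext (Cfsg.Agent.SporadicA.Co0Mono.signCo0_mul_self _)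
    have h4 : s1 ^ n * s1 ^ n = 1 := by
      rcases hn with hn | hn
      · have h5 : (((η z : L) : C) * s1 ^ n) * (((η z : L) : C) * s1 ^ n) = 1 := by rw [hn, one_mul]
        rw [hcomm.symm.mul_mul_mul_comm, h2, one_mul] at h5
        exact h5
      · have h5 : (((η z : L) : C) * s1 ^ n) * (((η z : L) : C) * s1 ^ n) = 1 := by rw [hn, hng2]
        rw [hcomm.symm.mul_mul_mul_comm, h2, one_mul] at h5
        exact h5
    have h6 : s1 ^ n = 1 := by
      have h7 : (s1 ^ n) ^ 3 = 1 := by rw [← pow_mul, mul_comm, pow_mul, hs3, one_pow]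
      have h8 : (s1 ^ n) ^ 3 = (s1 ^ n * s1 ^ n) * s1 ^ n := by rw [pow_succ, pow_two]
      rw [h8, h4, one_mul] at h7
      exact h7
    rw [h6, mul_one] at hn
    exact hn
  -- the character of degree 12
  let a : U → ℂ := fun u => χ (η u : L)
  have ha : IsIrrCharacter U a := isIrr_comp η hη irr_L
  have ha1 : a 1 = 12 := by
    show χ ((η 1 : L) : C) = 12
    rw [map_one]
    exact χ_one
  have haz : ∀ z, θ z = 1 → ∀ u, a (u * z) = a u ∨ a (u * z) = -a u := by
    intro z hz u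
    have h1 : a (u * z) = χ (((η u : L) : C) * ((η z : L) : C)) := by
      show χ ((η (u * z) : L) : C) = _
      rw [map_mul]
      rfl
    rcases hηz z hz with h | h
    · left
      rw [h1, h, mul_one]
    · right
      rw [h1, h, χ_ng]
  have hS := PermChar.SymAlt.isCharacter_symSq (isIrr_isCharacter ha)
  have hA := PermChar.SymAlt.isCharacter_altSq (isIrr_isCharacter ha)
  let S : U → ℂ := fun u => (a u ^ 2 + a (u * u)) / 2
  let A : U → ℂ := fun u => (a u ^ 2 - a (u * u)) / 2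
  have hS1 : S 1 = 78 := by
    show (a 1 ^ 2 + a (1 * 1)) / 2 = 78
    rw [one_mul, ha1]
    norm_num
  have hA1 : A 1 = 66 := by
    show (a 1 ^ 2 - a (1 * 1)) / 2 = 66
    rw [one_mul, ha1]
    norm_num
  have hSA : S + A = fun u => a u ^ 2 := by
    funext u
    show (a u ^ 2 + a (u * u)) / 2 + (a u ^ 2 - a (u * u)) / 2 = a u ^ 2
    ring
  -- the norm of the square
  obtain ⟨ψ, hψ1, hψ⟩ := exists_psi
  have hq : Function.Surjective (fun u : U => φ ((η u : L) : C)) := by
    intro x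
    obtain ⟨u, hu⟩ := hυ.surj (eX x)
    refine ⟨u, ?_⟩
    apply eX.injective
    show eX (φ ((η u : L) : C)) = eX x
    rw [← πL_apply, hηπ, hu]
  let q : U →* X := (φ.comp (commutator C).subtype).comp η
  have hψq : IsIrrCharacter U ((ψ : X → ℂ) ∘ q) := isIrr_comp q hq ψ.2
  have hne : (ψ : X → ℂ) ∘ q ≠ fun _ => 1 := by
    intro h
    apply hψ1
    funext x
    obtain ⟨u, rfl⟩ := hq x
    exact congrFun h u
  have hone : IsIrrCharacter U (fun _ => (1 : ℂ)) := Cfsg.Agent.Blocks.Basic.isIrrCharacter_one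
  have haa : (fun u => a u * conj (a u)) = (fun _ => (1 : ℂ)) + (ψ : X → ℂ) ∘ q := by
    funext u
    exact hψ _
  have hnorm : classInner (S + A) (S + A) = 2 := by
    have h1 : classInner (S + A) (S + A) = classInner (fun u => a u * conj (a u)) (fun u => a u * conj (a u)) := by
      rw [hSA, classInner_def, classInner_def]
      congr 1
      refine Finset.sum_congr rfl fun u _ => ?_
      rw [map_pow, map_mul, Complex.conj_conj]
      ring
    rw [h1, haa, classInner_add_left, classInner_add_right, classInner_add_right, classInner_irr_self hone,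
      classInner_irr_self hψq, classInner_irr_ne hone hψq hne.symm, classInner_irr_ne hψq hone hne]
    norm_num
  obtain ⟨iS, iA⟩ := irr_pair (S := S) (A := A) hS hA (by rw [hS1]; norm_num) (by rw [hA1]; norm_num) hnorm
  -- descent
  have hinv : ∀ (F : U → ℂ), (∀ z, θ z = 1 → ∀ u, F (u * z) = F u) → ∀ u, F (Function.surjInv hθ (θ u)) = F u := by
    intro F hF u
    have h1 : θ (u⁻¹ * Function.surjInv hθ (θ u)) = 1 := by
      rw [map_mul, Function.surjInv_eq hθ (θ u), map_inv, inv_mul_cancel]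
    have h2 := hF _ h1 u
    rwa [mul_inv_cancel_left] at h2
  have hsq : ∀ z, θ z = 1 → ∀ u, a (u * z) ^ 2 = a u ^ 2 ∧ a (u * z * (u * z)) = a (u * u) := by
    intro z hz u
    constructor
    · rcases haz z hz u with h | h
      · rw [h]
      · rw [h, neg_sq]
    · congr 1
      have h1 := hzc z hz u
      calc u * z * (u * z) = u * (z * u) * z := by group
        _ = u * u * (z * z) := by rw [← h1]; group
        _ = u * u := by rw [hz2 z hz, mul_one]
  have hSz : ∀ z, θ z = 1 → ∀ u, S (u * z) = S u := by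
    intro z hz u
    show (a (u * z) ^ 2 + a (u * z * (u * z))) / 2 = (a u ^ 2 + a (u * u)) / 2
    rw [(hsq z hz u).1, (hsq z hz u).2]
  have hAz : ∀ z, θ z = 1 → ∀ u, A (u * z) = A u := by
    intro z hz u
    show (a (u * z) ^ 2 - a (u * z * (u * z))) / 2 = (a u ^ 2 - a (u * u)) / 2
    rw [(hsq z hz u).1, (hsq z hz u).2]
  obtain ⟨u0, hu0⟩ := hη ⟨s1, s1_mem⟩
  have hυ0 : π (θ u0) = 1 := by
    rw [hθπ, ← hηπ, hu0, πL_apply, φ_s1, map_one]
  have hau0 : a u0 = 12 * ζ := by
    show χ ((η u0 : L) : C) = _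
    rw [hu0]
    exact χ_s1_one
  have hau00 : a (u0 * u0) = 12 * ζ ^ 2 := by
    show χ ((η (u0 * u0) : L) : C) = _
    rw [map_mul, hu0]
    exact χ_s1_sq
  have main : ∀ (F : U → ℂ) (d : ℕ), IsIrrCharacter U F → (∀ z, θ z = 1 → ∀ u, F (u * z) = F u) → F 1 = d → d ≠ 0 →
      F u0 = d * ζ ^ 2 → ∃ α : G → ℂ, IsIrrCharacter G α ∧ (∃ v ∈ π.ker, α v ≠ α 1) ∧ α 1 = d := by
    intro F d hF hFz hF1 hd hF0
    let α : G → ℂ := fun g => F (Function.surjInv hθ g)
    have hα : ∀ u, α (θ u) = F u := hinv F hFz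
    have hcomp : α ∘ θ = F := funext hα
    have h1 : IsCharacter G α := isCharacter_of_comp θ hθ (by rw [hcomp]; exact isIrr_isCharacter hF)
    have h2 : IsIrrCharacter G α := isIrr_of_comp θ h1 (by rw [hcomp]; exact hF)
    have h3 : α 1 = d := by rw [← map_one θ, hα, hF1]
    refine ⟨α, h2, ⟨θ u0, hυ0, ?_⟩, h3⟩
    rw [h3, hα, hF0]
    intro h
    apply ζ_sq_ne
    have hd' : (d : ℂ) ≠ 0 := Nat.cast_ne_zero.2 hd
    exact mul_left_cancel₀ hd' (by rw [h, mul_one])
  refine ⟨main S 78 iS hSz (by rw [hS1]; norm_num) (by norm_num) ?_, main A 66 iA hAz (by rw [hA1]; norm_num)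
    (by norm_num) ?_⟩
  · show (a u0 ^ 2 + a (u0 * u0)) / 2 = _
    rw [hau0, hau00]
    push_cast
    ring
  · show (a u0 ^ 2 - a (u0 * u0)) / 2 = _
    rw [hau0, hau00]
    push_cast
    ring

/-- a perfect central extension of `Suz` by a group of order 3 -/
theorem exists_sq {N : Type u} [Group N] [Finite N] {X : Type v} [Group X] (hS : Spor.IsoSuz X) (V : Subgroup N)
    [V.Normal] (hV : Nat.card V = 3) (hc : V ≤ Subgroup.center N) (hp : commutator N = ⊤)
    (hX : Nonempty ((N ⧸ V) ≃* X)) :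
    (∃ α : N → ℂ, IsIrrCharacter N α ∧ (∃ v ∈ V, α v ≠ α 1) ∧ α 1 = (78 : ℕ)) ∧
      (∃ α : N → ℂ, IsIrrCharacter N α ∧ (∃ v ∈ V, α v ≠ α 1) ∧ α 1 = (66 : ℕ)) := by
  obtain ⟨eS⟩ := hS
  obtain ⟨f⟩ := hX
  let E : Shrink.{0} N ≃* N := Shrink.mulEquiv
  have hfin : Finite (Shrink.{0} N) := Finite.of_equiv N E.symm.toEquiv
  let π : Shrink.{0} N →* Spor.Suz :=
    (eS.toMonoidHom.comp f.toMonoidHom).comp ((QuotientGroup.mk' V).comp E.toMonoidHom)
  have hker : ∀ x : Shrink.{0} N, x ∈ π.ker ↔ E x ∈ V := by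
    intro x
    rw [MonoidHom.mem_ker]
    show eS (f (QuotientGroup.mk' V (E x))) = 1 ↔ _
    rw [EmbeddingLike.map_eq_one_iff, EmbeddingLike.map_eq_one_iff]
    exact QuotientGroup.eq_one_iff _
  have hπ : IsCover π := by
    refine ⟨?_, ?_, ?_⟩
    · intro m
      obtain ⟨x, hx⟩ := QuotientGroup.mk'_surjective V (f.symm (eS.symm m))
      refine ⟨E.symm x, ?_⟩
      show eS (f (QuotientGroup.mk' V (E (E.symm x)))) = m
      rw [E.apply_symm_apply, hx, f.apply_symm_apply, eS.apply_symm_apply]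
    · intro x hx
      rw [Subgroup.mem_center_iff]
      intro y
      apply E.injective
      rw [map_mul, map_mul]
      exact Subgroup.mem_center_iff.1 (hc ((hker x).1 hx)) (E y)
    · have h2 : (commutator (Shrink.{0} N)).map E.toMonoidHom = commutator N := by
        rw [commutator_def, commutator_def, Subgroup.map_commutator, ← MonoidHom.range_eq_map]
        have h3 : E.toMonoidHom.range = ⊤ := MonoidHom.range_eq_top.2 E.surjective
        rw [h3]
      rw [hp] at h2
      rw [eq_top_iff]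
      intro x _
      have h3 : E x ∈ (commutator (Shrink.{0} N)).map E.toMonoidHom := by rw [h2]; trivial
      obtain ⟨y, hy, hyx⟩ := h3
      have h4 : y = x := E.injective hyx
      rwa [← h4]
  have h3 : Nat.card π.ker = 3 := by
    rw [← hV]
    exact Nat.card_congr
      { toFun := fun x => ⟨E x, (hker x).1 x.2⟩
        invFun := fun y => ⟨E.symm y, (hker _).2 (by rw [E.apply_symm_apply]; exact y.2)⟩
        left_inv := fun x => Subtype.ext (E.symm_apply_apply x)
        right_inv := fun y => Subtype.ext (E.apply_symm_apply y) }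
  have key : ∀ d : ℕ, (∃ α : Shrink.{0} N → ℂ, IsIrrCharacter (Shrink.{0} N) α ∧ (∃ v ∈ π.ker, α v ≠ α 1) ∧
      α 1 = (d : ℕ)) → ∃ α : N → ℂ, IsIrrCharacter N α ∧ (∃ v ∈ V, α v ≠ α 1) ∧ α 1 = (d : ℕ) := by
    rintro d ⟨α, hα, ⟨v, hv, hne⟩, h1⟩
    refine ⟨α ∘ E.symm, isIrr_comp E.symm.toMonoidHom E.symm.surjective hα, ⟨E v, (hker v).1 hv, ?_⟩, ?_⟩
    · show α (E.symm (E v)) ≠ α (E.symm 1)
      rw [E.symm_apply_apply, map_one]
      exact hne
    · show α (E.symm 1) = d
      rw [map_one]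
      exact h1
  obtain ⟨h78, h66⟩ := exists_sq0 hπ h3
  exact ⟨key 78 h78, key 66 h66⟩

end Cfsg.Agent.H759.S8.SuzSq
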